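import Cfsg.Agent.H27.Fi22U6.Data

/-!
The tables of `Fi22U6.Data` checked by evaluation.
-/
set_option autoImplicit false
set_option Elab.async false
set_option maxRecDepth 100000

namespace Cfsg.Agent.H27.Fi22U6

open Cfsg.Agent.H45 Cfsg.Agent.H93

/-- A scalar from its code. -/
def sc (s : ℕ) : B4 := (s.testBit 0, s.testBit 1)

/-- A multiple of a coordinate vector. -/
def bscale (c : B4) : B6 → B6
  | (x0, x1, x2, x3, x4, x5) =>
    (bmul c x0, bmul c x1, bmul c x2, bmul c x3, bmul c x4, bmul c x5)

/-- The vector of a point. -/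
def bv (k : ℕ) : B6 := bDec (cget vecTab k)

/-- The vector of a generator. -/
def gv (j : ℕ) : B6 := bv (genPt.getD j 0)

/-- The word of a generator in the letters. -/
def gw (j : ℕ) : List ℕ := Fi22I3510.subWords.getD (j + 1) []

/-- Words in the generators as words in the letters. -/
def flat (w : List ℕ) : List ℕ := w.flatMap gw

/-- Read a word in the table. -/
def cw (w : List ℕ) : List ℕ := w.map fun l => Fi22I3510.cols.getD l 0

/-- The entry of the table of a generator. -/
def nxt (j k : ℕ) : ℕ := cget (nxtTab.getD j 0) k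

/-- Equality of scalars. -/
def eq4 (x y : B4) : Bool := (x.1 == y.1) && (x.2 == y.2)

/-- Equality of vectors. -/
def eq6 : B6 → B6 → Bool
  | (x0, x1, x2, x3, x4, x5), (y0, y1, y2, y3, y4, y5) =>
    eq4 x0 y0 && eq4 x1 y1 && eq4 x2 y2 && eq4 x3 y3 && eq4 x4 y4 && eq4 x5 y5

theorem eq4_iff (x y : B4) : eq4 x y = true ↔ x = y := by
  obtain ⟨a, b⟩ := x
  obtain ⟨c, d⟩ := y
  simp [eq4]

theorem eq6_iff (x y : B6) : eq6 x y = true ↔ x = y := by
  obtain ⟨x0, x1, x2, x3, x4, x5⟩ := x
  obtain ⟨y0, y1, y2, y3, y4, y5⟩ := y
  simp [eq6, eq4_iff, and_assoc]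

/-- Step check of one generator at one point. -/
noncomputable def stepOK (j k : ℕ) : Bool :=
  decide (nxt j k / 4 < 693) && decide (nxt j k % 4 ≠ 0) &&
  Nat.beq (walkC (cw (gw j)) (cget ptsTab k)) (cget ptsTab (nxt j k / 4)) &&
  eq6 (bstep (gv j) (bv k)) (bscale (sc (nxt j k % 4)) (bv (nxt j k / 4)))

/-- Parent check of one point. -/
def parOK (k : ℕ) : Bool :=
  if cget parTab k < 32768 then
    decide (cget parTab k / 8 < k) && Nat.beq (nxt (cget parTab k % 8) (cget parTab k / 8) / 4) k
  else decide (65535 - cget parTab k < 8) && Nat.beq (genPt.getD (65535 - cget parTab k) 0) k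

/-- Look-up check of one code. -/
def lookOK (c : ℕ) : Bool :=
  Nat.beq c 0 || !eq4 (bform (bDec c) (bDec c)) (false, false) ||
    (decide (cget lookTab c / 4 < 693) && decide (cget lookTab c % 4 ≠ 0) &&
      eq6 (bDec c) (bscale (sc (cget lookTab c % 4)) (bv (cget lookTab c / 4))))

theorem pts_ok : (List.range 693).all (fun k => Nat.blt (cget ptsTab k) 3510 &&
    Nat.beq (cget invTab (cget ptsTab k)) k) = true := by decide +kernel

theorem vec_ok : (List.range 693).all (fun k => Nat.blt 0 (cget vecTab k) &&
    Nat.blt (cget vecTab k) 4096 && eq4 (bform (bv k) (bv k)) (false, false)) = true := by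
  decide +kernel

theorem gen_ok : (genPt.all fun k => Nat.blt k 693) = true ∧ genPt.length = 8 := by decide +kernel

theorem step_ok_0 : (List.range 693).all (stepOK 0) = true := by decide +kernel

theorem step_ok_1 : (List.range 693).all (stepOK 1) = true := by decide +kernel

theorem step_ok_2 : (List.range 693).all (stepOK 2) = true := by decide +kernel

theorem step_ok_3 : (List.range 693).all (stepOK 3) = true := by decide +kernel

theorem step_ok_4 : (List.range 693).all (stepOK 4) = true := by decide +kernel

theorem step_ok_5 : (List.range 693).all (stepOK 5) = true := by decide +kernel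

theorem step_ok_6 : (List.range 693).all (stepOK 6) = true := by decide +kernel

theorem step_ok_7 : (List.range 693).all (stepOK 7) = true := by decide +kernel

theorem step_ok {j : ℕ} (hj : j < 8) : (List.range 693).all (stepOK j) = true := by
  interval_cases j
  exacts [step_ok_0, step_ok_1, step_ok_2, step_ok_3, step_ok_4, step_ok_5, step_ok_6, step_ok_7]

theorem central_fix : (List.range 693).all (fun k =>
    Nat.beq (walkC (cw [0]) (cget ptsTab k)) (cget ptsTab k)) = true := by decide +kernel

theorem par_ok : (List.range 693).all parOK = true := by decide +kernel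

theorem look_ok : (List.range 4096).all lookOK = true := by decide +kernel

theorem conjW_lt : (List.range 8).all (fun j => (conjW.getD j []).all fun i => Nat.blt i 8) = true ∧
    (centralW.all fun i => Nat.blt i 8) = true := by decide +kernel

end Cfsg.Agent.H27.Fi22U6
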