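import Cfsg.Agent.H27.Fi22U6.Words
import Cfsg.Agent.H45.Fi22Top
import Cfsg.Agent.H93.U6NonSplit
import Cfsg.Agent.H93.Pair23
import Cfsg.Prelude.Def_SporadicB

/-!
The subgroup of index 3510 of the presented `Fi₂₂` maps onto `PSU 6 F 2` with kernel of order two.
-/
set_option autoImplicit false
set_option maxRecDepth 100000

namespace Cfsg.Agent.H27.Fi22U6

open Cfsg.Agent.H45 Cfsg.Agent.H93

/-- The presented group. -/
abbrev G := Fi22Pres.pres.Gp

/-- The subgroup of index 3510. -/
abbrev H : Subgroup G := Fi22Main.H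

variable {F : Type} [Field F] [Fintype F] (hF : Fintype.card F = 4)

/-- A root of `X² + X + 1`. -/
noncomputable def om : F := (exists_omega hF).choose

theorem om_spec : om hF ≠ 0 ∧ om hF ≠ 1 ∧ om hF ^ 2 + om hF + 1 = 0 := (exists_omega hF).choose_spec

include hF

theorem bval_inj : Function.Injective (bval (om hF)) := by
  obtain ⟨h0, h1, -⟩ := om_spec hF
  rintro ⟨a, b⟩ ⟨c, d⟩ hab
  have hs : om hF + 1 ≠ 0 := fun h => h1 ((add_eq_zero_iff_eq' hF).mp h)
  have hs' : 1 + om hF ≠ 0 := fun h => hs (by rw [add_comm]; exact h)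
  cases a <;> cases b <;> cases c <;> cases d <;> simp [bval] at hab ⊢ <;> grind

theorem bval_surj (x : F) : ∃ c, bval (om hF) c = x := by
  have h : Nat.card B4 = Nat.card F := by simp [Nat.card_eq_fintype_card, hF]
  exact ((Nat.bijective_iff_injective_and_card _).mpr ⟨bval_inj hF, h⟩).2 x

theorem bvec_inj : Function.Injective (bvec (om hF)) := by
  rintro ⟨x0, x1, x2, x3, x4, x5⟩ ⟨y0, y1, y2, y3, y4, y5⟩ hxy
  have e := fun i => congrFun hxy i
  have e0 := e 0; have e1 := e 1; have e2 := e 2; have e3 := e 3; have e4 := e 4; have e5 := e 5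
  simp [bvec] at e0 e1 e2 e3 e4 e5
  simp [bval_inj hF e0, bval_inj hF e1, bval_inj hF e2, bval_inj hF e3, bval_inj hF e4,
    bval_inj hF e5]

omit [Fintype F] hF in
theorem bDec_surj (x : B6) : ∃ c, c < 4096 ∧ bDec c = x := by
  have key : ∀ x : B6, ((if x.1.1 then 1 else 0) + (if x.1.2 then 2 else 0)
      + (if x.2.1.1 then 4 else 0) + (if x.2.1.2 then 8 else 0)
      + (if x.2.2.1.1 then 16 else 0) + (if x.2.2.1.2 then 32 else 0)
      + (if x.2.2.2.1.1 then 64 else 0) + (if x.2.2.2.1.2 then 128 else 0)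
      + (if x.2.2.2.2.1.1 then 256 else 0) + (if x.2.2.2.2.1.2 then 512 else 0)
      + (if x.2.2.2.2.2.1 then 1024 else 0) + (if x.2.2.2.2.2.2 then 2048 else 0)) < 4096 ∧ bDec ((if x.1.1 then 1 else 0) + (if x.1.2 then 2 else 0)
      + (if x.2.1.1 then 4 else 0) + (if x.2.1.2 then 8 else 0)
      + (if x.2.2.1.1 then 16 else 0) + (if x.2.2.1.2 then 32 else 0)
      + (if x.2.2.2.1.1 then 64 else 0) + (if x.2.2.2.1.2 then 128 else 0)
      + (if x.2.2.2.2.1.1 then 256 else 0) + (if x.2.2.2.2.1.2 then 512 else 0)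
      + (if x.2.2.2.2.2.1 then 1024 else 0) + (if x.2.2.2.2.2.2 then 2048 else 0)) = x := by
    set_option synthInstance.maxSize 2000 in decide +kernel
  exact ⟨_, (key x).1, (key x).2⟩

omit [Fintype F] hF in
theorem bDec_zero_iff {c : ℕ} (hc : c < 4096) (h : bDec c = bDec 0) : c = 0 := by
  refine Nat.eq_of_testBit_eq fun i => ?_
  rw [Nat.zero_testBit]
  rcases Nat.lt_or_ge i 12 with hi | hi
  · simp only [bDec, Nat.zero_testBit, Prod.mk.injEq] at h
    obtain ⟨⟨h0, h1⟩, ⟨h2, h3⟩, ⟨h4, h5⟩, ⟨h6, h7⟩, ⟨h8, h9⟩, h10, h11⟩ := h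
    interval_cases i <;> assumption
  · exact Nat.testBit_lt_two_pow
      (lt_of_lt_of_le (show c < 2 ^ 12 from hc) (Nat.pow_le_pow_right (by norm_num) hi))

theorem bvec_zero : bvec (om hF) (bDec 0) = 0 := by
  funext i
  fin_cases i <;> simp [bvec, bDec, bval]

theorem bvec_scale (c : B4) (x : B6) :
    bvec (om hF) (bscale c x) = bval (om hF) c • bvec (om hF) x := by
  obtain ⟨x0, x1, x2, x3, x4, x5⟩ := x
  funext i
  fin_cases i <;> simp [bvec, bscale, bval_mul hF (om_spec hF).2.2]

theorem sc_ne {s : ℕ} (hs : s < 4) (h : s ≠ 0) : bval (om hF) (sc s) ≠ 0 := by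
  intro e
  have e' := bval_inj hF (e.trans (show (0 : F) = bval (om hF) (false, false) by simp [bval]))
  exact (by decide : ∀ s, s < 4 → s ≠ 0 → sc s ≠ (false, false)) s hs h e' 

/-- The vector of a point. -/
noncomputable def pv (k : ℕ) : Vec F := bvec (om hF) (bv k)

theorem pv_pt {k : ℕ} (hk : k < 693) : IsPt (pv hF k) := by
  have h := List.all_eq_true.1 vec_ok k (List.mem_range.2 hk)
  simp only [Bool.and_eq_true, blt_iff, eq4_iff] at h
  refine ⟨fun e => ?_, ?_⟩
  · have := bDec_zero_iff h.1.2 (bvec_inj hF (e.trans (bvec_zero hF).symm))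
    omega
  · rw [pv, ← bform_spec hF (om_spec hF).2.2, h.2]; simp [bval]

/-- The transvection of a point. -/
noncomputable def pt (k : ℕ) : Cfsg.PSU 6 F 2 := ptv hF (pv hF k)

theorem pt_all {v : Vec F} (hv : IsPt v) : ∃ k, k < 693 ∧ ptv hF v = pt hF k := by
  obtain ⟨x, hx⟩ : ∃ x, bvec (om hF) x = v := by
    choose f hf using fun i => bval_surj hF (v i)
    refine ⟨(f 0, f 1, f 2, f 3, f 4, f 5), ?_⟩
    funext i
    fin_cases i <;> simp [bvec, hf]
  obtain ⟨c, hc, rfl⟩ := bDec_surj x
  subst hx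
  have h := List.all_eq_true.1 look_ok c (List.mem_range.2 hc)
  simp only [lookOK, Bool.or_eq_true, Bool.and_eq_true, Bool.not_eq_true', decide_eq_true_eq,
    Nat.beq_eq, ← Bool.not_eq_true, eq4_iff, eq6_iff] at h
  rcases h with (h | h) | ⟨⟨h1, h2⟩, h3⟩
  · exact absurd (by rw [h]; exact bvec_zero hF) hv.1
  · refine absurd (bval_inj hF ?_) h
    rw [bform_spec hF (om_spec hF).2.2, hv.2]
    simp [bval]
  · refine ⟨_, h1, ?_⟩
    rw [h3, bvec_scale, ptv_smul hF (sc_ne hF (Nat.mod_lt _ (by norm_num)) h2)]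
    rfl

/-- The vector of a generator. -/
noncomputable def gp (j : ℕ) : Vec F := pv hF (genPt.getD j 0)

omit [Fintype F] hF in
theorem genPt_lt {j : ℕ} (hj : j < 8) : genPt.getD j 0 < 693 := by
  have h := gen_ok
  rw [List.getD_eq_getElem _ _ (by rw [h.2]; exact hj)]
  have := List.all_eq_true.1 h.1 _ (List.getElem_mem (by rw [h.2]; exact hj))
  simpa [blt_iff] using this

theorem nxt_spec {j k : ℕ} (hj : j < 8) (hk : k < 693) :
    nxt j k / 4 < 693 ∧
    walkT Fi22I3510.cols (gw j) (cget ptsTab k) = cget ptsTab (nxt j k / 4) ∧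
    ptv hF (gp hF j) * pt hF k * ptv hF (gp hF j) = pt hF (nxt j k / 4) := by
  have h := List.all_eq_true.1 (step_ok hj) k (List.mem_range.2 hk)
  simp only [stepOK, Bool.and_eq_true, decide_eq_true_eq, Nat.beq_eq, eq6_iff] at h
  obtain ⟨⟨⟨h1, h2⟩, h3⟩, h4⟩ := h
  refine ⟨h1, ?_, ?_⟩
  · rw [← walkC_map]; exact h3
  · rw [pt, pt, gp, ptv_conj' hF (pv_pt hF (genPt_lt hj)).2]
    show ptv hF (bvec (om hF) (bv k) +
      hb (bvec (om hF) (bv k)) (bvec (om hF) (gv j)) • bvec (om hF) (gv j)) = _
    rw [← bstep_spec hF (om_spec hF).2.2, h4, bvec_scale,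
      ptv_smul hF (sc_ne hF (Nat.mod_lt _ (by norm_num)) h2)]
    rfl

omit [Fintype F] hF in
theorem pts_lt {k : ℕ} (hk : k < 693) : cget ptsTab k < 3510 := by
  have h := List.all_eq_true.1 pts_ok k (List.mem_range.2 hk)
  simp only [Bool.and_eq_true, blt_iff] at h
  exact h.1

omit [Fintype F] hF in
theorem pts_inj {k k' : ℕ} (hk : k < 693) (hk' : k' < 693) (e : cget ptsTab k = cget ptsTab k') :
    k = k' := by
  have h := List.all_eq_true.1 pts_ok k (List.mem_range.2 hk)
  have h' := List.all_eq_true.1 pts_ok k' (List.mem_range.2 hk')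
  simp only [Bool.and_eq_true, Nat.beq_eq] at h h'
  rw [← h.2, ← h'.2, e]

/-- The pairs generating the graph. -/
noncomputable def genSet : Set (G × Cfsg.PSU 6 F 2) :=
  insert (evalW Fi22Pres.pres.e [0], 1)
    {x | ∃ j, j < 8 ∧ x = (evalW Fi22Pres.pres.e (gw j), ptv hF (gp hF j))}

/-- The graph of the map. -/
noncomputable def graph : Subgroup (G × Cfsg.PSU 6 F 2) := Subgroup.closure (genSet hF)

omit [Fintype F] hF in
theorem gw_mem {j : ℕ} (hj : j < 8) : gw j ∈ Fi22I3510.subWords := by
  interval_cases j <;> decide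

omit [Fintype F] hF in
theorem gw_lt {j : ℕ} (hj : j < 8) : ∀ l ∈ gw j, l < Fi22Pres.pres.gl.length :=
  Fi22Main.subWords_lt _ (gw_mem hj)

omit [Fintype F] hF in
theorem eval_gw_mem {j : ℕ} (hj : j < 8) : evalW Fi22Pres.pres.e (gw j) ∈ H :=
  Subgroup.subset_closure ⟨gw j, gw_mem hj, rfl⟩

/-- The invariant of the graph. -/
theorem graph_inv (φ : G →* Equiv.Perm (Fin 3510))
    (hA : Act (permCheck_PT Fi22Main.perm_ok) Fi22Pres.pres.e φ) :
    ∀ x ∈ graph hF, ∀ k : Fin 693, ∃ k' : Fin 693,
      ((φ x.1)⁻¹ ⟨cget ptsTab k, pts_lt k.isLt⟩ : ℕ) = cget ptsTab k' ∧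
      x.2⁻¹ * pt hF k * x.2 = pt hF k' := by
  intro x hx
  induction hx using Subgroup.closure_induction with
  | mem x hx =>
      intro k
      rcases hx with rfl | ⟨j, hj, rfl⟩
      · refine ⟨k, ?_, by simp⟩
        have h := List.all_eq_true.1 central_fix k.val (List.mem_range.2 k.isLt)
        simp only [Nat.beq_eq] at h
        rw [hA.evalW _ (by intro l hl; simp at hl; subst hl; decide), sig_walk _ _ (by
          intro l hl; simp at hl; subst hl; decide), ← walkC_map]
        exact h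
      · obtain ⟨h1, h2, h3⟩ := nxt_spec hF hj k.isLt
        refine ⟨⟨_, h1⟩, ?_, ?_⟩
        · rw [hA.evalW _ (gw_lt hj), sig_walk _ _ (gw_lt hj)]
          exact h2
        · rw [inv_eq_of_mul_eq_one_left (ptv_mul_self hF _)]
          exact h3
  | one => intro k; exact ⟨k, by simp, by simp⟩
  | mul x y _ _ ihx ihy =>
      intro k
      obtain ⟨k₁, hk₁, hp₁⟩ := ihx k
      obtain ⟨k₂, hk₂, hp₂⟩ := ihy k₁
      refine ⟨k₂, ?_, ?_⟩
      · rw [Prod.fst_mul, map_mul, mul_inv_rev, Equiv.Perm.mul_apply, ← hk₂]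
        congr 2
        exact Fin.ext hk₁
      · rw [Prod.snd_mul, ← hp₂, ← hp₁]; group
  | inv x _ ih =>
      intro k
      choose f hf hp using ih
      have hinj : Function.Injective f := by
        intro a b e
        have e' : (φ x.1)⁻¹ ⟨cget ptsTab a, pts_lt a.isLt⟩ = (φ x.1)⁻¹ ⟨cget ptsTab b, pts_lt b.isLt⟩ :=
          Fin.ext (by rw [hf, hf, e])
        exact Fin.ext (pts_inj a.isLt b.isLt (congrArg Fin.val ((φ x.1)⁻¹.injective e')))
      obtain ⟨k', rfl⟩ := Finite.surjective_of_injective hinj k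
      refine ⟨k', ?_, ?_⟩
      · rw [Prod.fst_inv, map_inv, inv_inv]
        have : (φ x.1)⁻¹ ⟨cget ptsTab k', pts_lt k'.isLt⟩ = ⟨cget ptsTab (f k'), pts_lt (f k').isLt⟩ :=
          Fin.ext (hf k')
        rw [← this, Equiv.Perm.inv_def, Equiv.apply_symm_apply]
      · rw [Prod.snd_inv, ← hp k']; group

/-- The transvections generate. -/
theorem closure_pt : Subgroup.closure {x : Cfsg.PSU 6 F 2 | ∃ v, IsPt v ∧ x = ptv hF v} = ⊤ := by
  have := (psu_six_center hF).1
  set S := {x : Cfsg.PSU 6 F 2 | ∃ v, IsPt v ∧ x = ptv hF v} with hS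
  have hn : (Subgroup.closure S).Normal := by
    refine ⟨fun x hx g => ?_⟩
    have hle : Subgroup.closure S ≤ (Subgroup.closure S).comap (MulAut.conj g).toMonoidHom := by
      rw [Subgroup.closure_le]
      rintro _ ⟨v, hv, rfl⟩
      obtain ⟨g', rfl⟩ := QuotientGroup.mk_surjective g
      refine Subgroup.subset_closure ⟨act g' v, act_pt g' hv, ?_⟩
      simp only [MulEquiv.coe_toMonoidHom, MulAut.conj_apply]
      exact ptv_conj hF g' v
    exact hle hx
  refine hn.eq_bot_or_eq_top.resolve_left fun h => ?_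
  obtain ⟨v, hv⟩ := exists_pt hF
  exact ptv_ne_one hF hv (by
    rw [← Subgroup.mem_bot, ← h]
    exact Subgroup.subset_closure ⟨v, hv, rfl⟩)

theorem graph_single (x : G × Cfsg.PSU 6 F 2) (hx : x ∈ graph hF) (h1 : x.1 = 1) : x.2 = 1 := by
  obtain ⟨φ, hA, -⟩ := Fi22Main.index_facts
  have hc : ∀ v, IsPt v → Commute x.2 (ptv hF v) := by
    intro v hv
    obtain ⟨k, hk, e⟩ := pt_all hF hv
    obtain ⟨k', h, hp⟩ := graph_inv hF φ hA x hx ⟨k, hk⟩
    rw [h1, map_one, inv_one, Equiv.Perm.one_apply] at h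
    obtain rfl : k = k'.val := pts_inj hk k'.isLt h
    rw [← e, mul_assoc, inv_mul_eq_iff_eq_mul] at hp
    exact hp.symm
  have : x.2 ∈ Subgroup.center (Cfsg.PSU 6 F 2) := by
    rw [Subgroup.mem_center_iff]
    intro g
    have hle : Subgroup.closure {y : Cfsg.PSU 6 F 2 | ∃ v, IsPt v ∧ y = ptv hF v} ≤
        Subgroup.centralizer {x.2} := by
      rw [Subgroup.closure_le]
      rintro _ ⟨v, hv, rfl⟩
      exact Subgroup.mem_centralizer_singleton_iff.mpr (hc v hv).symm.eq
    rw [closure_pt hF] at hle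
    exact Subgroup.mem_centralizer_singleton_iff.mp (hle (Subgroup.mem_top g))
  rwa [(psu_six_center hF).2, Subgroup.mem_bot] at this

theorem graph_fst (g : H) : ∃ p, ((g : G), p) ∈ graph hF := by
  obtain ⟨g, hg⟩ := g
  suffices h : H ≤ (graph hF).map (MonoidHom.fst G (Cfsg.PSU 6 F 2)) by
    obtain ⟨⟨a, p⟩, hx, e⟩ := h hg
    exact ⟨p, by rw [show a = g from e] at hx; exact hx⟩
  refine (Subgroup.closure_le _).2 ?_
  rintro _ ⟨w, hw, rfl⟩
  have hcases : w = [0] ∨ ∃ j, j < 8 ∧ w = gw j := by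
    simp only [Fi22I3510.subWords, List.mem_cons, List.not_mem_nil, or_false] at hw
    rcases hw with h | h | h | h | h | h | h | h | h
    · exact Or.inl h
    all_goals right
    exacts [⟨0, by norm_num, h⟩, ⟨1, by norm_num, h⟩, ⟨2, by norm_num, h⟩, ⟨3, by norm_num, h⟩,
      ⟨4, by norm_num, h⟩, ⟨5, by norm_num, h⟩, ⟨6, by norm_num, h⟩, ⟨7, by norm_num, h⟩]
  rcases hcases with rfl | ⟨j, hj, rfl⟩
  · exact ⟨_, Subgroup.subset_closure (Or.inl rfl), rfl⟩
  · exact ⟨_, Subgroup.subset_closure (Or.inr ⟨j, hj, rfl⟩), rfl⟩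

theorem graph_unique {g : G} {p q : Cfsg.PSU 6 F 2} (hp : (g, p) ∈ graph hF)
    (hq : (g, q) ∈ graph hF) : p = q := by
  have := graph_single hF ((g, p)⁻¹ * (g, q)) (mul_mem (inv_mem hp) hq) (inv_mul_cancel g)
  exact inv_mul_eq_one.mp this

/-- The map onto `PSU 6 F 2`. -/
noncomputable def proj : H →* Cfsg.PSU 6 F 2 :=
  MonoidHom.mk' (fun g => (graph_fst hF g).choose) fun a b =>
    graph_unique hF (graph_fst hF (a * b)).choose_spec
      (mul_mem (graph_fst hF a).choose_spec (graph_fst hF b).choose_spec)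

theorem proj_eq {g : H} {p : Cfsg.PSU 6 F 2} (h : ((g : G), p) ∈ graph hF) : proj hF g = p :=
  graph_unique hF (graph_fst hF g).choose_spec h

/-- A generator in the subgroup. -/
noncomputable def gH (j : ℕ) : H :=
  if hj : j < 8 then ⟨_, eval_gw_mem hj⟩ else 1

theorem proj_gH {j : ℕ} (hj : j < 8) : proj hF (gH j) = ptv hF (gp hF j) := by
  refine proj_eq hF ?_
  rw [gH, dif_pos hj]
  exact Subgroup.subset_closure (Or.inr ⟨j, hj, rfl⟩)

theorem proj_surj : Function.Surjective (proj hF) := by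
  have hk : ∀ k, k < 693 → pt hF k ∈ (proj hF).range := by
    intro k
    induction k using Nat.strong_induction_on with
    | _ k ih =>
      intro hk
      have h := List.all_eq_true.1 par_ok k (List.mem_range.2 hk)
      unfold parOK at h
      split_ifs at h with hp
      · simp only [Bool.and_eq_true, decide_eq_true_eq, Nat.beq_eq] at h
        have hj : cget parTab k % 8 < 8 := Nat.mod_lt _ (by norm_num)
        have hk0 : cget parTab k / 8 < 693 := h.1.trans hk
        obtain ⟨a, ha⟩ := ih _ h.1 hk0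
        have e := (nxt_spec hF hj hk0).2.2
        rw [h.2] at e
        exact ⟨gH (cget parTab k % 8) * a * gH (cget parTab k % 8), by
          rw [map_mul, map_mul, proj_gH hF hj, ha, e]⟩
      · simp only [Bool.and_eq_true, decide_eq_true_eq, Nat.beq_eq] at h
        refine ⟨gH _, (proj_gH hF h.1).trans ?_⟩
        rw [gp, h.2]
        rfl
  rw [← MonoidHom.range_eq_top, eq_top_iff, ← closure_pt hF, Subgroup.closure_le]
  rintro _ ⟨v, hv, rfl⟩
  obtain ⟨k, hk', e⟩ := pt_all hF hv
  rw [e]
  exact hk k hk'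

omit [Fintype F] hF in
theorem card_H : Nat.card H = 18393661440 := by
  obtain ⟨-, hc, -⟩ := Fi22Top.order_facts
  have h := H.card_mul_index
  rw [hc, Fi22Main.H_index] at h
  omega

theorem card_ker : Nat.card (proj hF).ker = 2 := by
  have h := Subgroup.card_eq_card_quotient_mul_card_subgroup (proj hF).ker
  rw [card_H, Nat.card_congr (QuotientGroup.quotientKerEquivOfSurjective _ (proj_surj hF)).toEquiv,
    card_psu_six hF] at h
  omega

theorem center_H : Subgroup.center H = (proj hF).ker := by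
  refine le_antisymm (fun z hz => ?_) (fun z hz => ?_)
  · rw [MonoidHom.mem_ker, ← Subgroup.mem_bot, ← (psu_six_center hF).2, Subgroup.mem_center_iff]
    intro p
    obtain ⟨g, rfl⟩ := proj_surj hF p
    rw [← map_mul, ← map_mul, Subgroup.mem_center_iff.mp hz g]
  · rw [Subgroup.mem_center_iff]
    intro g
    obtain ⟨a, b, hab, hu⟩ := Nat.card_eq_two_iff.mp (card_ker hF)
    have hcase : ∀ y : (proj hF).ker, y = a ∨ y = b := fun y => by
      have : y ∈ ({a, b} : Set (proj hF).ker) := hu ▸ Set.mem_univ y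
      simpa using this
    by_cases h1 : z = 1
    · simp [h1]
    have hc : g * z * g⁻¹ ∈ (proj hF).ker := (inferInstance : (proj hF).ker.Normal).conj_mem z hz g
    have hne : g * z * g⁻¹ ≠ 1 := fun e => h1 (by simpa [mul_inv_eq_one] using e)
    have : g * z * g⁻¹ = z := by
      rcases hcase ⟨z, hz⟩ with e | e <;> rcases hcase ⟨_, hc⟩ with e' | e' <;>
        rcases hcase 1 with e'' | e'' <;>
        first
          | exact congrArg Subtype.val (e'.trans e.symm)
          | exact absurd (congrArg Subtype.val (e.trans e''.symm)) h1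
          | exact absurd (congrArg Subtype.val (e'.trans e''.symm)) hne
    exact (mul_inv_eq_iff_eq_mul.mp this)

/-! ### Perfection -/

omit [Fintype F] hF in
theorem evalW_reverse (w : List ℕ) :
    evalW Fi22Pres.pres.e w.reverse = (evalW Fi22Pres.pres.e w)⁻¹ := by
  induction w with
  | nil => simp [evalW]
  | cons l w ih =>
      rw [List.reverse_cons, evalW_append, ih, evalW_cons, evalW_cons, mul_inv_rev]
      congr 1
      have := Fi22Pres.ok.e_inv 9 l
      rw [linv_range] at this
      simpa [evalW] using this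

omit [Fintype F] hF in
theorem eval_flat (w : List ℕ) (hw : ∀ i ∈ w, i < 8) :
    evalW Fi22Pres.pres.e (flat w) = ((w.map gH).prod : H) := by
  induction w with
  | nil => simp [flat, evalW]
  | cons i w ih =>
      rw [flat, List.flatMap_cons, evalW_append, ← flat, ih fun a ha => hw a (by simp [ha]),
        List.map_cons, List.prod_cons, Subgroup.coe_mul, gH, dif_pos (hw i (by simp))]

omit [Fintype F] hF in
theorem perfect : commutator H = ⊤ := by
  obtain ⟨-, -, φ, hA, hinj, -⟩ := Fi22Top.order_facts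
  let ab : H →* Abelianization H := Abelianization.of
  have hprod : ∀ (w : List ℕ), (∀ i ∈ w, i < 8) → (∀ j, j < 8 → ab (gH j) = ab (gH 0)) →
      ab ((w.map gH).prod) = ab (gH 0) ^ w.length := by
    intro w hw he
    induction w with
    | nil => simp
    | cons i w ih =>
        rw [List.map_cons, List.prod_cons, map_mul, he i (hw i (by simp)),
          ih fun a ha => hw a (by simp [ha]), List.length_cons, pow_succ']
  have heq : ∀ j, j < 8 → ab (gH j) = ab (gH 0) := by
    intro j hj
    have hw := List.all_eq_true.1 conj_ok j (List.mem_range.2 hj)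
    have hl : ∀ i ∈ conjW.getD j [], i < 8 := by
      have := List.all_eq_true.1 conjW_lt.1 j (List.mem_range.2 hj)
      simpa [blt_iff] using this
    have e := evalW_eq_one hA hinj hw
    rw [evalW_append, evalW_append, evalW_append, evalW_reverse, eval_flat _ hl] at e
    set u : H := ((conjW.getD j []).map gH).prod
    have e' : u * gH j * u⁻¹ * gH 0 = 1 := Subtype.ext (by
      rw [gH, gH, dif_pos hj, dif_pos (by norm_num)]; exact e)
    have := congrArg ab e'
    rw [map_mul, map_mul, map_mul, map_one, map_inv, mul_comm (ab u), mul_inv_cancel_right] at this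
    have hs : ab (gH 0) * ab (gH 0) = 1 := by
      rw [← map_mul, ← map_one ab]
      refine congrArg ab (Subtype.ext ?_)
      rw [gH, dif_pos (by norm_num)]
      show evalW Fi22Pres.pres.e [2] * evalW Fi22Pres.pres.e [2] = 1
      rw [← evalW_append]
      exact Fi22Pres.ok.rel _ (by decide)
    exact mul_right_cancel (this.trans hs.symm)
  have hsq : ab (gH 0) ^ 2 = 1 := by
    rw [← map_pow, ← map_one ab]
    refine congrArg ab (Subtype.ext ?_)
    rw [gH, dif_pos (by norm_num), SubmonoidClass.coe_pow, pow_two, ← evalW_append]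
    exact Fi22Pres.ok.rel _ (by decide)
  have h63 : ab (gH 0) ^ 63 = 1 := by
    have e := evalW_eq_one hA hinj odd_ok
    have hl : ∀ i ∈ (List.replicate 9 (List.range 7)).flatten, i < 8 := by decide
    rw [eval_flat _ hl] at e
    have := congrArg ab (Subtype.ext (a2 := (1 : H)) e)
    rw [hprod _ hl heq, map_one] at this
    exact this
  have h0 : ab (gH 0) = 1 := by
    have : ab (gH 0) ^ 63 = (ab (gH 0) ^ 2) ^ 31 * ab (gH 0) := by rw [← pow_mul, ← pow_succ]
    rwa [h63, hsq, one_pow, one_mul, eq_comm] at this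
  have hz : ∀ x : H, (x : G) = evalW Fi22Pres.pres.e [0] → ab x = 1 := by
    intro x hx
    have e := evalW_eq_one hA hinj central_ok
    have hl : ∀ i ∈ centralW, i < 8 := by simpa [blt_iff] using conjW_lt.2
    rw [evalW_append, eval_flat _ hl, ← hx, ← Subgroup.coe_mul] at e
    have := congrArg ab (Subtype.ext (a2 := (1 : H)) e)
    rwa [map_mul, hprod _ hl heq, h0, one_pow, one_mul, map_one] at this
  rw [← Abelianization.ker_of, eq_top_iff]
  rintro x -
  rw [MonoidHom.mem_ker]
  show ab x = 1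
  obtain ⟨x, hx⟩ := x
  induction hx using Subgroup.closure_induction with
  | mem g hg =>
      obtain ⟨w, hw, rfl⟩ := hg
      simp only [Fi22I3510.subWords, List.mem_cons, List.not_mem_nil, or_false] at hw
      have key : ∀ j, j < 8 → w = gw j → ab ⟨evalW Fi22Pres.pres.e w, Subgroup.subset_closure ⟨w, by
          simp only [Fi22I3510.subWords, List.mem_cons, List.not_mem_nil, or_false]; exact hw, rfl⟩⟩ = 1 := by
        intro j hj hwj
        rw [← h0, ← heq j hj]
        subst hwj
        refine congrArg ab (Subtype.ext ?_)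
        rw [gH, dif_pos hj]
      rcases hw with h | h | h | h | h | h | h | h | h
      · subst h; exact hz _ rfl
      exacts [key 0 (by norm_num) h, key 1 (by norm_num) h, key 2 (by norm_num) h,
        key 3 (by norm_num) h, key 4 (by norm_num) h, key 5 (by norm_num) h, key 6 (by norm_num) h,
        key 7 (by norm_num) h]
  | one => exact map_one ab
  | mul a b ha hb iha ihb =>
      rw [show (⟨a * b, _⟩ : H) = ⟨a, ha⟩ * ⟨b, hb⟩ from rfl, map_mul, iha, ihb, one_mul]
  | inv a ha ih =>
      rw [show (⟨a⁻¹, _⟩ : H) = (⟨a, ha⟩ : H)⁻¹ from rfl, map_inv, ih, inv_one]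

/-- The subgroup of index 3510 is a non-split double cover of `PSU 6 F 2`. -/
theorem nonsplit : Cfsg.IsNonsplitDoubleCover H (Cfsg.PSU 6 F 2) := by
  have hcen := center_H hF
  refine ⟨by rw [hcen]; exact card_ker hF,
    ⟨(QuotientGroup.quotientMulEquivOfEq hcen).trans
      (QuotientGroup.quotientKerEquivOfSurjective _ (proj_surj hF))⟩, fun L hL => ?_⟩
  have : Finite H := Nat.finite_of_card_ne_zero (by rw [card_H]; norm_num)
  have hidx : L.index = 2 := by
    rw [hL.index_eq_card, hcen]
    exact card_ker hF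
  have : L.Normal := Subgroup.normal_of_index_eq_two hidx
  have hle : commutator H ≤ L := by
    refine Subgroup.Normal.commutator_le_of_self_sup_commutative_eq_top
      (H := Subgroup.center H) ?_ inferInstance
    exact hL.symm.sup_eq_top
  rw [perfect, top_le_iff] at hle
  rw [hle, Subgroup.index_top] at hidx
  norm_num at hidx

end Cfsg.Agent.H27.Fi22U6
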