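import Cfsg.Agent.H27.Fi22U6.Check

/-!
Relations of the point stabiliser checked on the 3510 points.
-/
set_option autoImplicit false
set_option Elab.async false
set_option maxRecDepth 100000

namespace Cfsg.Agent.H27.Fi22U6

open Cfsg.Agent.H45

theorem conj_ok : (List.range 8).all (fun j =>
    (flat (conjW.getD j []) ++ gw j ++ (flat (conjW.getD j [])).reverse ++ [2]).all
        (fun l => Nat.blt l 9) &&
      fixAll (cw (flat (conjW.getD j []) ++ gw j ++ (flat (conjW.getD j [])).reverse ++ [2]))
        3510) = true := by decide +kernel

theorem central_ok : ((flat centralW ++ [0]).all (fun l => Nat.blt l 9) &&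
    fixAll (cw (flat centralW ++ [0])) 3510) = true := by decide +kernel

theorem odd_ok : ((flat (List.replicate 9 (List.range 7)).flatten).all (fun l => Nat.blt l 9) &&
    fixAll (cw (flat (List.replicate 9 (List.range 7)).flatten)) 3510) = true := by decide +kernel

end Cfsg.Agent.H27.Fi22U6
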